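import Cfsg.Agent.Gol.Conj

set_option autoImplicit false
set_option maxRecDepth 100000
set_option linter.all false

namespace Cfsg.Agent.Gol.O23
open Cfsg.Agent.CGT

def g_Ws : List (List ℕ) := [[10, 4, 6, 0, 2, 12, 8, 6, 1, 6, 4, 10], [10, 12, 1, 2, 10, 1, 4, 8, 0], [4, 6, 2, 8, 4, 0, 2, 1], [8, 1, 6, 4, 10, 1, 4, 8, 0, 4, 6, 1], [10, 8, 10, 2, 6, 2, 1, 4, 1], [6, 4, 0, 6, 0, 4], [8, 6, 0, 8, 2, 0, 6, 4, 1, 2], [4, 0, 2, 1], [1, 2, 0, 6, 2, 4], [4, 1, 6, 2, 0, 4], [1, 4, 1], [4, 0, 2, 1], [1, 2, 1], [1], [0], [2], [4], [6], [8], [10], [12]]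
theorem g_s0 : slpB 5 m23_ts (chainBase [] m23_ls) g_Ws [[3, 3, 0, 0, 2, 4, 1], [5, 5], [7, 9, 7, 6, 6, 8, 7, 8, 9], [7, 8, 9, 6, 8, 6, 7, 9, 8], [11, 11], [12, 12, 12, 11, 11, 12, 12, 11, 11], [13, 10, 12, 12, 11, 13, 10], [17, 17, 18, 18, 17, 15, 19], [16, 15, 14, 17, 14], [17, 17, 19, 15, 16], [25, 21, 25, 22, 20, 22, 20], [27], [22, 24, 20, 27], [22, 25, 27], [19, 19, 16, 22, 20, 26], [13, 10, 12, 12, 18, 17, 22, 27], [6, 6, 9, 7, 10, 12, 18, 16, 20, 26], [3, 0, 12, 20, 22, 21]] 3 21 = true := by decide +kernel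
theorem g_top {G : Type*} [Group G] {φ : G →* Equiv.Perm ℕ} {γ : ℕ → G}
    (C : Cert φ γ 5 m23_ns m23_ts [0, 2, 4, 6, 8, 10, 12] m23_ls) : gw γ (g_Ws.take 3) = ⊤ := by
  have h0 : SlpTo γ (gw γ (g_Ws.take 3)) g_Ws 3 := fun i hi =>
    ev_mem_gw γ (by interval_cases i <;> decide +kernel)
  rw [eq_top_iff, ← C.gen]
  exact SlpTo.gp_le (SlpTo.step C.M C.base (by decide +kernel) h0 g_s0) (by decide +kernel)

end Cfsg.Agent.Gol.O23
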