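import Cfsg.Agent.Gol.Conj

set_option autoImplicit false
set_option maxRecDepth 100000
set_option linter.all false

namespace Cfsg.Agent.Gol.O23
open Cfsg.Agent.CGT

def cu_l0 : Level := ⟨1, [[0], [2], [4], [6], [8], [10], [12]], [], 0xfffffe, 23⟩
def cu_l1 : Level := ⟨2, [[0], [2], [4], [6], [8], [10]], [], 0xfffffc, 22⟩
def cu_l2 : Level := ⟨5, [[0], [2], [4], [6], [8]], [], 0xfffff8, 21⟩
def cu_l3 : Level := ⟨22, [[6, 4, 0, 6, 4], [8, 2, 6, 2, 1], [0, 4, 8, 0, 2]], [], 0xffffd8, 20⟩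
def cu_l4 : Level := ⟨6, [[1, 2, 6, 2], [8, 2, 8, 0, 4, 1], [2, 1, 2, 8, 1, 2, 1]], [], 0xb777d8, 16⟩
def cu_l5 : Level := ⟨12, [[1, 8, 0, 2, 6, 2, 0]], [], 0x5400, 3⟩
def cu_ls : List Level := [cu_l0, cu_l1, cu_l2, cu_l3, cu_l4, cu_l5]
def cu_S : Srch := ⟨5, m23_ts, (chainBase [] m23_ls), [12, 1, 6, 8, 1, 12, 4, 10, 4, 8, 2, 6, 2], [12, 1, 6, 8, 1, 12, 4, 10, 4, 8, 2, 6, 2], []⟩
def cu_lk : List ℕ := [2, 3, 6, 23, 7]
def cu_tl : List Level := [cu_l1, cu_l2, cu_l3, cu_l4, cu_l5]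
def cu_R0 : ℕ := 0x8202
theorem cu_l0_ok : cu_l0.okT 5 m23_ts [0, 2, 4, 6, 8, 10, 12] [] (.cons [12] (.cons [0] (.cons [6] (.cons [0] .nil .nil) (.cons [8] (.cons [2] .nil .nil) (.cons [10] (.cons [4] .nil .nil) .nil))) (.cons [1] (.cons [6] .nil (.cons [8] (.cons [1] .nil (.cons [2] .nil (.cons [6] (.cons [12] .nil .nil) (.cons [10] (.cons [8] .nil .nil) .nil)))) .nil)) (.cons [6] (.cons [0] (.cons [2] .nil .nil) (.cons [4] (.cons [8] .nil .nil) .nil)) .nil))) .nil) = true := by decide +kernel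
theorem cu_l1_ok : cu_l1.okT 5 m23_ts [0, 2, 4, 6, 8, 10, 12] [1] (.cons [10] (.cons [0] (.cons [2] .nil (.cons [4] (.cons [6] .nil .nil) (.cons [6] .nil (.cons [8] .nil .nil)))) (.cons [1] (.cons [6] (.cons [0] .nil (.cons [1] .nil (.cons [8] .nil .nil))) (.cons [8] (.cons [1] .nil .nil) .nil)) (.cons [2] (.cons [1] .nil (.cons [4] (.cons [0] .nil (.cons [8] .nil .nil)) (.cons [8] .nil (.cons [10] .nil .nil)))) .nil))) .nil) = true := by decide +kernel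
theorem cu_l2_ok : cu_l2.okT 5 m23_ts [0, 2, 4, 6, 8, 10, 12] [2, 1] (.cons [2] (.cons [1] (.cons [4] .nil (.cons [6] .nil .nil)) .nil) (.cons [4] (.cons [0] .nil (.cons [1] (.cons [2] .nil .nil) (.cons [2] (.cons [6] .nil (.cons [8] .nil .nil)) (.cons [6] .nil (.cons [8] .nil .nil))))) (.cons [6] (.cons [1] (.cons [8] .nil .nil) (.cons [2] (.cons [1] (.cons [8] .nil .nil) .nil) (.cons [4] .nil .nil))) .nil))) = true := by decide +kernel
theorem cu_l3_ok : cu_l3.okT 5 m23_ts [0, 2, 4, 6, 8, 10, 12] [5, 2, 1] (.cons [0] (.cons [2] (.cons [5] .nil .nil) (.cons [3] .nil (.cons [4] (.cons [1] .nil .nil) .nil))) (.cons [1] .nil (.cons [2] (.cons [0] .nil (.cons [1] .nil (.cons [4] (.cons [2] .nil (.cons [3] .nil .nil)) .nil))) (.cons [4] (.cons [0] .nil (.cons [4] .nil .nil)) (.cons [5] (.cons [2] (.cons [4] .nil .nil) .nil) .nil))))) = true := by decide +kernel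
theorem cu_l4_ok : cu_l4.okT 5 m23_ts [0, 2, 4, 6, 8, 10, 12] [22, 5, 2, 1] (.cons [0] (.cons [2] .nil (.cons [3] .nil (.cons [4] (.cons [1] .nil .nil) .nil))) (.cons [1] (.cons [2] .nil (.cons [3] .nil (.cons [4] .nil .nil))) (.cons [2] (.cons [1] (.cons [4] .nil .nil) .nil) (.cons [3] (.cons [4] .nil .nil) (.cons [4] .nil .nil))))) = true := by decide +kernel
theorem cu_l5_ok : cu_l5.okT 5 m23_ts [0, 2, 4, 6, 8, 10, 12] [6, 22, 5, 2, 1] (.cons [0] .nil (.cons [1] .nil .nil)) = true := by decide +kernel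
theorem cu_aux : cu_S.auxB [0, 2, 4, 6, 8, 10, 12] cu_ls [] (0 :: cu_lk) = true := by decide +kernel
theorem cu_cov : Nat.beq (Nat.land cu_l0.O (Srch.cover m23_ns (invW cu_S.u') cu_R0 10)) cu_l0.O = true := by decide +kernel
theorem cu_r0 : cu_S.run (.cons [] (.cons [] (.cons [] (.cons [] (.cons [] (.cons [] (.leaf 2000) .nil) .nil) .nil) .nil) .nil) (.cons [1, 12] (.cons [1, 2, 10] (.cons [2, 4] (.cons [0, 2] (.cons [0] .nil .nil) .nil) .nil) .nil) (.cons [2, 8, 1, 12] .nil .nil))) (⟨cu_l0.b, cu_l0.S, [], cu_R0, 0⟩ :: cu_tl) (0 :: cu_lk) Pd.nil 0 = true := by decide +kernel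
theorem cu_sound {G : Type*} [Group G] {φ : G →* Equiv.Perm ℕ} {γ : ℕ → G}
    (M : Model φ γ 5 m23_ns m23_ts) : ChainSound φ (gp γ [0, 2, 4, 6, 8, 10, 12]) 5 [] cu_ls :=
  ⟨Level.okT_sound M cu_l0_ok,
   Level.okT_sound M cu_l1_ok,
   Level.okT_sound M cu_l2_ok,
   Level.okT_sound M cu_l3_ok,
   Level.okT_sound M cu_l4_ok,
   Level.okT_sound M cu_l5_ok, trivial⟩
theorem cu_cent {G : Type*} [Group G] {φ : G →* Equiv.Perm ℕ} {γ : ℕ → G}
    (C : Cert φ γ 5 m23_ns m23_ts [0, 2, 4, 6, 8, 10, 12] m23_ls) : Cent γ cu_S.u cu_S.Cl 10 :=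
  have X := (C.rechain (cu_sound C.M) (by decide +kernel)).exact
  have A := Srch.auxB_sound (S := cu_S) C.M (K := ⊤) le_top rfl cu_aux
  have F := fun {tr : Tr} {R : ℕ} => Srch.found_of_run (S := cu_S) C.M C.base (by decide +kernel) X A (tr := tr) (R := R)
  Cent.of_found (S := cu_S) C.M X rfl (F cu_r0) cu_cov

end Cfsg.Agent.Gol.O23
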