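import Cfsg.Agent.Gol.O23.OutX
import Cfsg.Agent.Gol.O23.OutU
import Cfsg.Agent.Gol.O23.OutG
import Cfsg.Agent.CGT.Out2

set_option autoImplicit false
set_option maxRecDepth 100000
set_option linter.all false

namespace Cfsg.Agent.Gol.O23
open Cfsg.Agent.CGT

def od : OutD := ⟨5, m23_ts, (chainBase [] m23_ls), [10, 4, 6, 0, 2, 12, 8, 6, 1, 6, 4, 10], [10, 12, 1, 2, 10, 1, 4, 8, 0], [4, 6, 2, 8, 4, 0, 2, 1], [10, 12, 1, 2, 10, 1, 4, 8, 0], 23, 2, 1, 3, 10, [1, 5], [], [[1, 3, 4, 3, 1, 3, 4, 3, 1, 3, 4, 3, 1, 3, 4, 3, 1, 3, 4, 3]], [[[10, 4, 6, 0, 2, 12, 8, 6, 1, 6, 4, 10], [10, 12, 1, 2, 10, 1, 4, 8, 0], [4, 6, 2, 8, 4, 0, 2, 1]]]⟩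
theorem od_b : od.basic 10200960 1 = true := by decide +kernel
theorem od_c : conjB 5 m23_ts (chainBase [] m23_ls) [10, 4, 8, 0] od.u cu_S.u od.Cl cu_S.Cl = true := by decide +kernel
theorem od_k1 : od.cands 1 ([] :: od.Cl) [[0, 513, 513, 513, 513, 513, 513, 513, 513, 513, 513]] = true := by decide +kernel
theorem od_k5 : od.cands 5 ([] :: od.Cl) [[513, 513, 513, 513, 513, 513, 513, 1537, 513, 513, 513]] = true := by decide +kernel
theorem out_card {G : Type*} [Group G] {φ : G →* Equiv.Perm ℕ} {γ : ℕ → G} (C : Cert φ γ 5 m23_ns m23_ts [0, 2, 4, 6, 8, 10, 12] m23_ls)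
    (hN : Nat.card G = 10200960) : Nat.card (Cfsg.Out G) = 1 :=
  haveI := C.fin
  OutD.out_one (D := od) C.M C.base hN (by norm_num [od]) od_b (cx_cent C) ((cu_cent C).conj C.M C.base od_c)
    (by
    intro k hk
    simp only [od, List.mem_cons, List.not_mem_nil, or_false] at hk
    rcases hk with rfl | rfl
    exacts [OutD.cands_sound C.M C.base od_b od_k1, OutD.cands_sound C.M C.base od_b od_k5]) (g_top C) rfl
theorem out_eq : Nat.card (Cfsg.Out Cfsg.Spor.M23) = 1 := out_card m23_cert m23_card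

end Cfsg.Agent.Gol.O23
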