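import Cfsg.Agent.Gol.Conj

set_option autoImplicit false
set_option maxRecDepth 100000
set_option linter.all false

namespace Cfsg.Agent.Gol.O23
open Cfsg.Agent.CGT

def cx_l0 : Level := ⟨1, [[0], [2], [4], [6], [8], [10], [12]], [], 0xfffffe, 23⟩
def cx_l1 : Level := ⟨2, [[0], [2], [4], [6], [8], [10]], [], 0xfffffc, 22⟩
def cx_l2 : Level := ⟨9, [[0], [2], [4], [6], [8]], [], 0xfffff8, 21⟩
def cx_l3 : Level := ⟨20, [[6, 0, 2, 6, 4, 0], [1, 8, 2, 8, 0, 4], [8, 6, 0, 8, 1, 6, 2]], [], 0xfffdf8, 20⟩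
def cx_l4 : Level := ⟨13, [[4, 6, 1, 2], [2, 8, 2, 0, 6, 4, 1], [4, 1, 2, 8, 1, 6, 1]], [], 0x6f79f8, 16⟩
def cx_l5 : Level := ⟨15, [[2, 4, 1, 8, 4, 2, 6, 2, 4]], [], 0x808400, 3⟩
def cx_ls : List Level := [cx_l0, cx_l1, cx_l2, cx_l3, cx_l4, cx_l5]
def cx_S : Srch := ⟨5, m23_ts, (chainBase [] m23_ls), [10, 4, 6, 0, 2, 12, 8, 6, 1, 6, 4, 10], [10, 4, 6, 0, 2, 12, 8, 6, 1, 6, 4, 10], []⟩
def cx_lk : List ℕ := [2, 3, 10, 21, 14]
def cx_tl : List Level := [cx_l1, cx_l2, cx_l3, cx_l4, cx_l5]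
def cx_R0 : ℕ := 0x2
theorem cx_l0_ok : cx_l0.okT 5 m23_ts [0, 2, 4, 6, 8, 10, 12] [] (.cons [12] (.cons [0] (.cons [6] (.cons [0] .nil .nil) (.cons [8] (.cons [2] .nil .nil) (.cons [10] (.cons [4] .nil .nil) .nil))) (.cons [1] (.cons [6] .nil (.cons [8] (.cons [1] .nil (.cons [2] .nil (.cons [6] (.cons [12] .nil .nil) (.cons [10] (.cons [8] .nil .nil) .nil)))) .nil)) (.cons [6] (.cons [0] (.cons [2] .nil .nil) (.cons [4] (.cons [8] .nil .nil) .nil)) .nil))) .nil) = true := by decide +kernel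
theorem cx_l1_ok : cx_l1.okT 5 m23_ts [0, 2, 4, 6, 8, 10, 12] [1] (.cons [10] (.cons [0] (.cons [2] .nil (.cons [4] (.cons [6] .nil .nil) (.cons [6] .nil (.cons [8] .nil .nil)))) (.cons [1] (.cons [6] (.cons [0] .nil (.cons [1] .nil (.cons [8] .nil .nil))) (.cons [8] (.cons [1] .nil .nil) .nil)) (.cons [2] (.cons [1] .nil (.cons [4] (.cons [0] .nil (.cons [8] .nil .nil)) (.cons [8] .nil (.cons [10] .nil .nil)))) .nil))) .nil) = true := by decide +kernel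
theorem cx_l2_ok : cx_l2.okT 5 m23_ts [0, 2, 4, 6, 8, 10, 12] [2, 1] (.cons [0] (.cons [2] (.cons [8] .nil .nil) (.cons [6] (.cons [1] .nil .nil) .nil)) (.cons [1] (.cons [2] .nil .nil) (.cons [2] (.cons [0] (.cons [4] .nil .nil) (.cons [6] .nil (.cons [8] .nil .nil))) (.cons [4] (.cons [2] .nil (.cons [6] .nil .nil)) (.cons [6] (.cons [2] .nil .nil) (.cons [8] (.cons [0] .nil (.cons [6] .nil .nil)) .nil)))))) = true := by decide +kernel
theorem cx_l3_ok : cx_l3.okT 5 m23_ts [0, 2, 4, 6, 8, 10, 12] [9, 2, 1] (.cons [0] (.cons [2] (.cons [4] .nil .nil) (.cons [3] (.cons [0] .nil .nil) (.cons [5] .nil .nil))) (.cons [2] (.cons [0] .nil (.cons [4] .nil (.cons [5] .nil .nil))) (.cons [3] (.cons [0] (.cons [3] .nil (.cons [5] .nil .nil)) .nil) (.cons [4] .nil (.cons [5] (.cons [2] (.cons [0] .nil .nil) (.cons [3] .nil .nil)) .nil))))) = true := by decide +kernel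
theorem cx_l4_ok : cx_l4.okT 5 m23_ts [0, 2, 4, 6, 8, 10, 12] [20, 9, 2, 1] (.cons [0] (.cons [3] .nil (.cons [4] .nil (.cons [5] .nil .nil))) (.cons [1] (.cons [2] .nil (.cons [3] .nil (.cons [4] .nil .nil))) (.cons [2] (.cons [1] .nil (.cons [4] .nil .nil)) (.cons [3] (.cons [5] .nil .nil) (.cons [4] .nil (.cons [5] .nil .nil)))))) = true := by decide +kernel
theorem cx_l5_ok : cx_l5.okT 5 m23_ts [0, 2, 4, 6, 8, 10, 12] [13, 20, 9, 2, 1] (.cons [0] .nil (.cons [1] .nil .nil)) = true := by decide +kernel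
theorem cx_aux : cx_S.auxB [0, 2, 4, 6, 8, 10, 12] cx_ls [] (0 :: cx_lk) = true := by decide +kernel
theorem cx_cov : Nat.beq (Nat.land cx_l0.O (Srch.cover m23_ns (invW cx_S.u') cx_R0 22)) cx_l0.O = true := by decide +kernel
theorem cx_r0 : cx_S.run (.cons [] (.cons [] (.cons [] (.cons [] (.cons [] (.cons [] (.leaf 2000) .nil) .nil) .nil) .nil) .nil) .nil) (⟨cx_l0.b, cx_l0.S, [], cx_R0, 0⟩ :: cx_tl) (0 :: cx_lk) Pd.nil 0 = true := by decide +kernel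
theorem cx_sound {G : Type*} [Group G] {φ : G →* Equiv.Perm ℕ} {γ : ℕ → G}
    (M : Model φ γ 5 m23_ns m23_ts) : ChainSound φ (gp γ [0, 2, 4, 6, 8, 10, 12]) 5 [] cx_ls :=
  ⟨Level.okT_sound M cx_l0_ok,
   Level.okT_sound M cx_l1_ok,
   Level.okT_sound M cx_l2_ok,
   Level.okT_sound M cx_l3_ok,
   Level.okT_sound M cx_l4_ok,
   Level.okT_sound M cx_l5_ok, trivial⟩
theorem cx_cent {G : Type*} [Group G] {φ : G →* Equiv.Perm ℕ} {γ : ℕ → G}
    (C : Cert φ γ 5 m23_ns m23_ts [0, 2, 4, 6, 8, 10, 12] m23_ls) : Cent γ cx_S.u cx_S.Cl 22 :=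
  have X := (C.rechain (cx_sound C.M) (by decide +kernel)).exact
  have A := Srch.auxB_sound (S := cx_S) C.M (K := ⊤) le_top rfl cx_aux
  have F := fun {tr : Tr} {R : ℕ} => Srch.found_of_run (S := cx_S) C.M C.base (by decide +kernel) X A (tr := tr) (R := R)
  Cent.of_found (S := cx_S) C.M X rfl (F cx_r0) cx_cov

end Cfsg.Agent.Gol.O23
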